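import Cfsg.Agent.Lib.Transfer.Focal
import Cfsg.Agent.Lib.Supersolvable.Basic
import Cfsg.Agent.Lib.Solvable.Basic
import Mathlib.GroupTheory.IsSubnormal
import Mathlib.GroupTheory.Nilpotent

/-!
Normal complements of Hall subgroups by iterated focal subgroups; subnormal Hall subgroups.
-/

set_option autoImplicit false

open Subgroup
open scoped Pointwise commutatorElement

namespace CfsgLib.HallComplement

universe u

variable {G : Type u} [Group G]

/-- A normal Hall subgroup contains every subgroup of the same order. -/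
theorem le_of_normal_hall [Finite G] {M R : Subgroup G} [M.Normal]
    (hcop : (Nat.card R).Coprime M.index) : R ≤ M := by
  rw [← relIndex_eq_one]
  exact Nat.eq_one_of_dvd_coprimes hcop (index_dvd_card _) (relIndex_dvd_index_of_normal M R)

/-- A subnormal Hall subgroup is normal. -/
theorem normal_of_subnormal_hall [Finite G] {M : Subgroup G} (hM : M.IsSubnormal)
    (hcop : (Nat.card M).Coprime M.index) : M.Normal := by
  revert hM hcop M
  refine CfsgLib.Supersolvable.groupInduction (P := fun G _ _ => ∀ {M : Subgroup G}, M.IsSubnormal →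
    (Nat.card M).Coprime M.index → M.Normal) (fun G _ _ ih M hM hcop => ?_) G
  rcases hM.lt_normal with rfl | ⟨N, hN, hMN, hNlt⟩
  · infer_instance
  have hc : Nat.card (M.subgroupOf N) = Nat.card M := Nat.card_congr (subgroupOfEquivOfLe hMN).toEquiv
  have hcopN : (Nat.card (M.subgroupOf N)).Coprime (M.subgroupOf N).index := by
    rw [hc]
    exact hcop.coprime_dvd_right ⟨N.index, (relIndex_mul_index hMN).symm⟩
  have hlt : Nat.card N < Nat.card G := lt_of_le_of_ne (card_le_card_group N) fun h =>
    hNlt.ne (eq_top_of_card_eq N h)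
  have hMn := ih N hlt hM.subgroupOf hcopN
  have : (M.subgroupOf N).Characteristic := by
    rw [characteristic_iff_map_le]
    intro φ
    refine le_of_normal_hall ?_
    rwa [card_map_of_injective φ.injective]
  rw [← map_subgroupOf_eq_of_le hMN]
  infer_instance

theorem focal_mono {H K : Subgroup G} (h : H ≤ K) : H.focalSubgroup ≤ K.focalSubgroup := by
  rw [focalSubgroup_def, focalSubgroup_def]
  refine closure_mono ?_
  rintro g ⟨hg, x, hx, u, he⟩
  exact ⟨h hg, x, h hx, u, he⟩

theorem focal_subgroupOf_map_le {H M : Subgroup G} :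
    (H.subgroupOf M).focalSubgroup.map M.subtype ≤ H.focalSubgroup := by
  rw [focalSubgroup_def, focalSubgroup_def, MonoidHom.map_closure]
  refine closure_mono ?_
  rintro _ ⟨g, ⟨hg, x, hx, u, rfl⟩, rfl⟩
  exact ⟨mem_subgroupOf.mp hg, x, mem_subgroupOf.mp hx, u, map_commutatorElement M.subtype x u⟩

/-- If the iterated focal subgroups of a Hall subgroup reach `⊥` it has a normal complement. -/
theorem exists_normal_complement_of_focal_series [Finite G] {H : Subgroup G}
    (hHall : (Nat.card H).Coprime H.index) (n : ℕ)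
    (hfoc : (fun K : Subgroup G => K.focalSubgroup)^[n] H = ⊥) :
    ∃ N : Subgroup G, N.Normal ∧ IsComplement' N H := by
  have key : ∀ k, ∃ M H' : Subgroup G, M.IsSubnormal ∧ H' ≤ M ∧ H' ≤ H ∧
      H' ≤ (fun K : Subgroup G => K.focalSubgroup)^[k] H ∧
      Nat.card M = Nat.card H' * H.index := by
    intro k
    induction k with
    | zero => exact ⟨⊤, H, IsSubnormal.top, le_top, le_rfl, le_rfl, by rw [card_top, card_mul_index]⟩
    | succ k ih =>
      obtain ⟨M, H', hM, hle, hleH, hfock, hcard⟩ := ih
      set K := H'.subgroupOf M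
      have hKc : Nat.card K = Nat.card H' := Nat.card_congr (subgroupOfEquivOfLe hle).toEquiv
      have hKi : K.index = H.index := by
        have := K.card_mul_index
        rw [hKc, hcard] at this
        exact Nat.eq_of_mul_eq_mul_left Nat.card_pos this
      have hcop : Nat.Coprime K.index (Nat.card (K ⧸ K.focalSubgroupOf)) := by
        refine CfsgLib.Transfer.coprime_card_quotient_focal
          (CfsgLib.Transfer.coprime_index_relIndex_of_coprime_card ?_)
        rw [hKc, hKi]
        exact hHall.coprime_dvd_left (card_dvd_of_le hleH)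
      set L := (K.transferFocal).ker
      have hsurj := CfsgLib.Transfer.transferFocal_surjective_of_coprime hcop
      have hLK := CfsgLib.Transfer.ker_transferFocal_inf_of_coprime hcop
      have hfK : K.focalSubgroup ≤ L := hLK.ge.trans inf_le_left
      have hLc : Nat.card L = Nat.card K.focalSubgroup * H.index := by
        have h1 := L.card_mul_index
        rw [Subgroup.index_ker, MonoidHom.range_eq_top.mpr hsurj, card_top, hcard, ← hKc,
          ← K.focalSubgroupOf.card_mul_index, ← index_eq_card] at h1
        have h2 : Nat.card K.focalSubgroupOf = Nat.card K.focalSubgroup := by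
          rw [← map_focalSubgroupOf, card_map_of_injective K.subtype_injective]
        rw [h2, mul_right_comm] at h1
        exact Nat.eq_of_mul_eq_mul_right (Nat.pos_of_ne_zero index_ne_zero_of_finite) h1
      have hLn : L.Normal := inferInstance
      refine ⟨L.map M.subtype, K.focalSubgroup.map M.subtype, (Normal.isSubnormal hLn).trans' hM,
        map_mono hfK, ?_, ?_, ?_⟩
      · exact (map_mono K.focalSubgroup_le).trans ((map_subgroupOf_eq_of_le hle).le.trans hleH)
      · rw [Function.iterate_succ_apply']
        exact focal_subgroupOf_map_le.trans (focal_mono hfock)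
      · rw [card_map_of_injective M.subtype_injective, card_map_of_injective M.subtype_injective, hLc]
  obtain ⟨M, H', hM, -, -, hfn, hcard⟩ := key n
  rw [hfoc, le_bot_iff] at hfn
  rw [hfn, card_bot, one_mul] at hcard
  have hMi : M.index = Nat.card H := by
    have := M.card_mul_index
    rw [hcard, ← H.card_mul_index, mul_comm (Nat.card H)] at this
    exact Nat.eq_of_mul_eq_mul_left (Nat.pos_of_ne_zero index_ne_zero_of_finite) this
  refine ⟨M, normal_of_subnormal_hall hM (by rw [hcard, hMi]; exact hHall.symm), ?_⟩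
  exact isComplement'_of_coprime (by rw [hcard, mul_comm, card_mul_index])
    (by rw [hcard]; exact hHall.symm)

/-- A subgroup with the same fusion as itself has focal series inside its lower central series. -/
theorem focal_iterate_le_lowerCentralSeries [Finite G] {H : Subgroup G}
    (hfus : ∀ p : ℕ, p.Prime → ∀ x ∈ H, (∃ k, orderOf x = p ^ k) → ∀ u : G, u * x * u⁻¹ ∈ H →
      ∃ h ∈ H, h * x * h⁻¹ = u * x * u⁻¹) (k : ℕ) :
    (fun K : Subgroup G => K.focalSubgroup)^[k] H ≤ H.lowerCentralSeries k := by
  induction k with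
  | zero => exact le_rfl
  | succ k ih =>
    rw [Function.iterate_succ_apply']
    refine (focal_mono ih).trans ?_
    set L := H.lowerCentralSeries k
    set W := H.lowerCentralSeries (k + 1) with hW
    have hWs : W = ⁅L, H⁆ := Subgroup.lowerCentralSeries_succ H k
    have hLH : L ≤ H := lowerCentralSeries_le_self H k
    have hn : (W.subgroupOf H).Normal :=
      normal_subgroupOf_of_le_normalizer (self_le_normalizer_lowerCentralSeries H (k + 1))
    rw [focalSubgroup_def, closure_le]
    rintro _ ⟨hg, x, hx, u, rfl⟩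
    have hy : u * x * u⁻¹ ∈ L := by
      have := L.mul_mem (L.inv_mem hg) hx
      rw [commutatorElement_inv, commutatorElement_def] at this
      simpa [mul_assoc] using this
    have hpow : ∀ z : zpowers x, u * (z : G) * u⁻¹ ∈ L := fun z => by
      obtain ⟨j, hj⟩ := mem_zpowers_iff.mp z.2
      rw [← hj, ← conj_zpow]
      exact zpow_mem hy j
    let f₁ : zpowers x →* H ⧸ W.subgroupOf H :=
      (QuotientGroup.mk' _).comp ((zpowers x).subtype.codRestrict H fun z =>
        hLH (zpowers_le.mpr hx z.2))
    let f₂ : zpowers x →* H ⧸ W.subgroupOf H :=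
      (QuotientGroup.mk' _).comp (((MulAut.conj u).toMonoidHom.comp (zpowers x).subtype).codRestrict H
        fun z => hLH (hpow z))
    have htop : f₁.eqLocus f₂ = ⊤ := by
      refine eq_top_of_card_eq _ (Nat.dvd_antisymm (card_subgroup_dvd_card _) ?_)
      rw [← Nat.factorization_prime_le_iff_dvd Nat.card_pos.ne' Nat.card_pos.ne']
      intro p hp
      have := Fact.mk hp
      have P : Sylow p (zpowers x) := default
      rw [← hp.pow_dvd_iff_le_factorization Nat.card_pos.ne', ← P.card_eq_multiplicity]
      refine card_dvd_of_le fun z hz => ?_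
      obtain ⟨j, hj⟩ := IsPGroup.iff_orderOf.mp P.2 (⟨z, hz⟩ : P)
      have hzL : (z : G) ∈ L := zpowers_le.mpr hx z.2
      obtain ⟨h, hh, heq⟩ := hfus p hp (z : G) (hLH hzL)
        ⟨j, by rw [Subgroup.orderOf_coe]; rw [Subgroup.orderOf_mk] at hj; exact hj⟩ u (hLH (hpow z))
      show f₁ z = f₂ z
      refine QuotientGroup.eq.mpr (mem_subgroupOf.mpr ?_)
      show (z : G)⁻¹ * (u * (z : G) * u⁻¹) ∈ W
      rw [← heq, show (z : G)⁻¹ * (h * (z : G) * h⁻¹) = ⁅(z : G)⁻¹, h⁆ by
        rw [commutatorElement_def, inv_inv]; group, hWs]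
      exact commutator_mem_commutator (L.inv_mem hzL) hh
    have h1 : f₁ ⟨x, mem_zpowers x⟩ = f₂ ⟨x, mem_zpowers x⟩ :=
      show (⟨x, mem_zpowers x⟩ : zpowers x) ∈ f₁.eqLocus f₂ from htop ▸ mem_top _
    have h2 : x⁻¹ * (u * x * u⁻¹) ∈ W := mem_subgroupOf.mp (QuotientGroup.eq.mp h1)
    have h4 : x * (x⁻¹ * (u * x * u⁻¹))⁻¹ * x⁻¹ ∈ W :=
      (mem_normalizer_iff.mp (self_le_normalizer_lowerCentralSeries H (k + 1) (hLH hx)) _).mp
        (inv_mem h2)
    show ⁅x, u⁆ ∈ W
    rw [commutatorElement_def]
    simpa [mul_assoc] using h4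

/-- Sylow normalisers equal to `H` force a normal complement. -/
theorem exists_normal_complement_of_normalizers [Finite G] {H : Subgroup G}
    (hnot : ∀ p : ℕ, p.Prime → ∀ P : Sylow p G, (P : Subgroup G) ≠ H)
    (hnorm : ∀ p : ℕ, p.Prime → p ∣ Nat.card H → ∀ P : Sylow p H,
      normalizer (((P : Subgroup H).map H.subtype : Subgroup G) : Set G) = H) :
    ∃ N : Subgroup G, N.Normal ∧ IsComplement' N H := by
  have hsyl : ∀ (p : ℕ) [Fact p.Prime], p ∣ Nat.card H → ∀ P : Sylow p H,
      ∃ R : Sylow p G, (R : Subgroup G) = (P : Subgroup H).map H.subtype := by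
    intro p _ hpd P
    obtain ⟨R, hR⟩ := (P.2.map H.subtype).exists_le_sylow
    refine ⟨R, le_antisymm ?_ hR⟩
    by_contra hne
    set P' := (P : Subgroup H).map H.subtype
    have := R.2.isNilpotent
    have hlt : P'.subgroupOf R < ⊤ :=
      lt_top_iff_ne_top.mpr fun h => hne (subgroupOf_eq_top.mp h)
    obtain ⟨x, hx, hx'⟩ := SetLike.exists_of_lt (Group.normalizerCondition_of_isNilpotent _ hlt)
    have h1 : (x : G) ∈ normalizer (P' : Set G) := by
      have h2 := le_normalizer_map (R : Subgroup G).subtype (mem_map_of_mem _ hx)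
      rwa [map_subgroupOf_eq_of_le hR] at h2
    rw [hnorm p Fact.out hpd P] at h1
    have h3 : (P : Subgroup H) = (R : Subgroup G).subgroupOf H :=
      (P.3 (R.2.comap_of_injective H.subtype H.subtype_injective)
        (map_le_iff_le_comap.mp hR)).symm
    exact hx' (mem_subgroupOf.mpr ⟨⟨x, h1⟩, h3 ▸ x.2, rfl⟩)
  have hHall : (Nat.card H).Coprime H.index := Nat.coprime_of_dvd fun p hp h1 h2 => by
    have := Fact.mk hp
    have P : Sylow p H := default
    obtain ⟨R, hR⟩ := hsyl p h1 P
    have h3 : H.index ∣ (R : Subgroup G).index :=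
      index_dvd_of_le (hR ▸ map_subtype_le _)
    exact R.not_dvd_index (h2.trans h3)
  have hnormal : ∀ (p : ℕ) [Fact p.Prime] (P : Sylow p H), (P : Subgroup H).Normal := by
    intro p _ P
    by_cases hpd : p ∣ Nat.card H
    · refine normalizer_eq_top_iff.mp (top_le_iff.mp fun h _ => ?_)
      have h2 := hnorm p Fact.out hpd P
      have h1 : (h : G) ∈ normalizer (((P : Subgroup H).map H.subtype : Subgroup G) : Set G) := by
        rw [h2]; exact h.2
      rw [mem_normalizer_iff] at h1 ⊢
      intro y
      have := h1 y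
      simp only [show ∀ z : H, (z : G) ∈ (P : Subgroup H).map H.subtype ↔ z ∈ (P : Subgroup H) from
        fun z => mem_map_iff_mem H.subtype_injective] at this
      rw [← show ((h * y * h⁻¹ : H) : G) = (h : G) * y * (h : G)⁻¹ from rfl] at this
      simpa only [show ∀ z : H, (z : G) ∈ (P : Subgroup H).map H.subtype ↔ z ∈ (P : Subgroup H) from
        fun z => mem_map_iff_mem H.subtype_injective] using this
    · have : (P : Subgroup H) = ⊥ := by
        apply eq_bot_of_card_eq
        rw [P.card_eq_multiplicity, Nat.factorization_eq_zero_of_not_dvd hpd, pow_zero]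
      rw [this]
      exact normal_bot
  have hnil : Group.IsNilpotent H := by
    have q := (Group.isNilpotent_of_finite_tfae (G := H)).out 0 3
    rw [q]
    exact fun p hp P => hnormal p P
  have hfus : ∀ p : ℕ, p.Prime → ∀ x ∈ H, (∃ k, orderOf x = p ^ k) → ∀ u : G, u * x * u⁻¹ ∈ H →
      ∃ h ∈ H, h * x * h⁻¹ = u * x * u⁻¹ := by
    intro p hp x hx hxo u hy
    have := Fact.mk hp
    obtain ⟨k, hk⟩ := hxo
    rcases eq_or_ne x 1 with rfl | hx1
    · exact ⟨1, one_mem _, by simp⟩
    have hpH : p ∣ Nat.card H := by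
      refine dvd_trans ?_ (orderOf_dvd_natCard (⟨x, hx⟩ : H))
      rw [Subgroup.orderOf_mk, hk]
      exact dvd_pow_self p fun h => hx1 (orderOf_eq_one_iff.mp (by rw [hk, h, pow_zero]))
    have P : Sylow p H := default
    have hmemP : ∀ z ∈ H, orderOf z = p ^ k → z ∈ (P : Subgroup H).map H.subtype := by
      intro z hz hzo
      have := hnormal p P
      have hzp : IsPGroup p (zpowers (⟨z, hz⟩ : H)) :=
        IsPGroup.of_card (n := k) (by rw [Nat.card_zpowers, Subgroup.orderOf_mk, hzo])
      obtain ⟨Q, hQ⟩ := hzp.exists_le_sylow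
      obtain ⟨g, hg⟩ := MulAction.exists_smul_eq H P Q
      rw [← hg, Sylow.smul_eq_of_normal] at hQ
      exact ⟨⟨z, hz⟩, hQ (mem_zpowers _), rfl⟩
    -- a second prime
    obtain ⟨q, hq, hqH, hqp⟩ : ∃ q, q.Prime ∧ q ∣ Nat.card H ∧ q ≠ p := by
      by_contra hall
      push Not at hall
      obtain ⟨R, hR⟩ := hsyl p hpH P
      refine hnot p hp R (le_antisymm (hR ▸ map_subtype_le _) ?_)
      have hpg : IsPGroup p H := IsPGroup.of_card (Nat.eq_prime_pow_of_unique_prime_dvd
        Nat.card_pos.ne' fun {d} hd hdd => hall d hd hdd)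
      have htop : (P : Subgroup H) = ⊤ := (P.3 (hpg.to_subgroup ⊤) le_top).symm
      rw [hR, htop, ← MonoidHom.range_eq_map, range_subtype]
    have := Fact.mk hq
    have Q : Sylow q H := default
    obtain ⟨R, hR⟩ := hsyl q hqH Q
    have hcent : ∀ z ∈ H, orderOf z = p ^ k → (R : Subgroup G) ≤ centralizer {z} := by
      intro z hz hzo
      obtain ⟨z', hz', rfl⟩ := hmemP z hz hzo
      rw [hR]
      rintro _ ⟨b, hb, rfl⟩
      rw [mem_centralizer_singleton_iff]
      have hdis : Disjoint (P : Subgroup H) (Q : Subgroup H) :=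
        IsPGroup.disjoint_of_ne _ _ hqp.symm _ _ P.2 Q.2
      exact congrArg Subtype.val
        (commute_of_normal_of_disjoint (P : Subgroup H) (Q : Subgroup H) (hnormal p P) (hnormal q Q)
          hdis z' b hz' hb).eq.symm
    set y := u * x * u⁻¹ with hydef
    have hyo : orderOf y = p ^ k := by
      have := orderOf_injective (MulAut.conj u).toMonoidHom (MulAut.conj u).injective x
      simpa [hydef] using this.trans hk
    have hR1 := hcent y hy hyo
    have hR2 : ((u • R : Sylow q G) : Subgroup G) ≤ centralizer {y} := by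
      intro w hw
      rw [Sylow.coe_subgroup_smul, mem_pointwise_smul_iff_inv_smul_mem, ← map_inv,
        MulAut.smul_def, MulAut.conj_apply, inv_inv] at hw
      have := mem_centralizer_singleton_iff.mp (hcent x hx hk hw)
      rw [mem_centralizer_singleton_iff, hydef]
      calc w * (u * x * u⁻¹) = u * (u⁻¹ * w * u * x) * u⁻¹ := by group
        _ = u * (x * (u⁻¹ * w * u)) * u⁻¹ := by rw [this]
        _ = u * x * u⁻¹ * w := by group
    obtain ⟨c, hc⟩ := MulAction.exists_smul_eq (centralizer {y} : Subgroup G)
      ((u • R).subtype hR2) (R.subtype hR1)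
    have hcu : (c : G) * u ∈ normalizer ((R : Subgroup G) : Set G) := by
      rw [mem_normalizer_iff_map_conj_eq]
      have h1 := congrArg (fun S : Sylow q (centralizer {y} : Subgroup G) =>
        (S : Subgroup _).map (centralizer {y}).subtype) hc
      simp only [Sylow.coe_subgroup_smul, Sylow.coe_subtype] at h1
      rw [map_subgroupOf_eq_of_le hR1] at h1
      refine Eq.trans ?_ h1
      have hR2' : MulAut.conj u • (R : Subgroup G) ≤ centralizer {y} := hR2
      rw [CfsgLib.Solvable.map_conj_smul, map_subgroupOf_eq_of_le hR2', ← mul_smul, ← map_mul]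
      rfl
    rw [hR, hnorm q hq hqH Q] at hcu
    refine ⟨_, hcu, ?_⟩
    have := mem_centralizer_singleton_iff.mp c.2
    calc (c : G) * u * x * ((c : G) * u)⁻¹ = (c : G) * (u * x * u⁻¹) * (c : G)⁻¹ := by group
      _ = (c : G) * y * (c : G)⁻¹ := rfl
      _ = y := by rw [this, mul_inv_cancel_right]
  obtain ⟨n, hn⟩ := (isNilpotent_iff_lowerCentralSeries H).mp hnil
  exact exists_normal_complement_of_focal_series hHall n
    (eq_bot_iff.mpr ((focal_iterate_le_lowerCentralSeries hfus n).trans hn.le))

end CfsgLib.HallComplement
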